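import Mathlib.RingTheory.AdjoinRoot
import Mathlib.RingTheory.Etale.StandardEtale
import Mathlib.Algebra.Category.Ring.Constructions
import Mathlib.RingTheory.RingHom.FinitePresentation
import Mathlib.RingTheory.RingHom.Flat
import Mathlib.RingTheory.RingHom.Etale

/-!
# Adjoining a `d`-th root, with rescaling maps
-/

universe u

open Polynomial CategoryTheory

noncomputable section

namespace GrothLib.RootCover26

variable {R S T : Type u} [CommRing R] [CommRing S] [CommRing T]

/-- `R[t]/(t^d - a)`. -/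
abbrev Root (d : ℕ) (a : R) : Type u := AdjoinRoot (X ^ d - C a)

theorem root_pow (d : ℕ) (a : R) :
    AdjoinRoot.root (X ^ d - C a) ^ d = AdjoinRoot.of (X ^ d - C a) a := by
  have h := AdjoinRoot.eval₂_root (X ^ d - C a)
  rw [eval₂_sub, eval₂_X_pow, eval₂_C, sub_eq_zero] at h
  exact h

variable {d : ℕ}

/-- Out of `R[t]/(t^d - a)`. -/
def desc {a : R} (φ : R →+* T) (x : T) (h : x ^ d = φ a) : Root d a →+* T :=
  AdjoinRoot.lift φ x (by rw [eval₂_sub, eval₂_X_pow, eval₂_C, h, sub_self])

@[simp]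
theorem desc_of {a : R} (φ : R →+* T) (x : T) (h : x ^ d = φ a) (r : R) :
    desc φ x h (AdjoinRoot.of (X ^ d - C a) r) = φ r :=
  AdjoinRoot.lift_of _

@[simp]
theorem desc_root {a : R} (φ : R →+* T) (x : T) (h : x ^ d = φ a) :
    desc φ x h (AdjoinRoot.root _) = x :=
  AdjoinRoot.lift_root _

theorem hom_ext {a : R} {F G : Root d a →+* T}
    (h₀ : ∀ r, F (AdjoinRoot.of (X ^ d - C a) r) = G (AdjoinRoot.of (X ^ d - C a) r))
    (h₁ : F (AdjoinRoot.root _) = G (AdjoinRoot.root _)) : F = G := by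
  refine RingHom.ext fun y => ?_
  obtain ⟨p, rfl⟩ := AdjoinRoot.mk_surjective y
  show (F.comp (AdjoinRoot.mk _)) p = (G.comp (AdjoinRoot.mk _)) p
  congr 1
  refine Polynomial.ringHom_ext (fun r => ?_) ?_
  · exact h₀ r
  · exact h₁

/-- Rescale the root. -/
def rmap {a : R} {b : S} (φ : R →+* S) (g : S) (h : φ a = g ^ d * b) : Root d a →+* Root d b :=
  desc ((AdjoinRoot.of (X ^ d - C b)).comp φ) (AdjoinRoot.of (X ^ d - C b) g * AdjoinRoot.root _)
    (by rw [mul_pow, root_pow, ← map_pow, ← map_mul, RingHom.comp_apply, h])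

@[simp]
theorem rmap_of {a : R} {b : S} (φ : R →+* S) (g : S) (h : φ a = g ^ d * b) (r : R) :
    rmap φ g h (AdjoinRoot.of (X ^ d - C a) r) = AdjoinRoot.of (X ^ d - C b) (φ r) :=
  desc_of _ _ _ _

@[simp]
theorem rmap_root {a : R} {b : S} (φ : R →+* S) (g : S) (h : φ a = g ^ d * b) :
    rmap φ g h (AdjoinRoot.root _) = AdjoinRoot.of (X ^ d - C b) g * AdjoinRoot.root _ :=
  desc_root _ _ _

theorem rmap_self {a : R} (φ : R →+* R) (hφ : φ = RingHom.id R) (g : R) (hg : g = 1) (h : φ a = g ^ d * a) :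
    rmap φ g h = RingHom.id (Root d a) := by
  subst hφ hg
  exact hom_ext (fun r => by simp) (by simp)

theorem rmap_comp {a : R} {b : S} {e : T} (φ : R →+* S) (g : S) (h : φ a = g ^ d * b) (ψ : S →+* T) (g' : T)
    (h' : ψ b = g' ^ d * e) (θ : R →+* T) (g'' : T) (h'' : θ a = g'' ^ d * e)
    (hθ : θ = ψ.comp φ) (hg : g'' = ψ g * g') :
    rmap θ g'' h'' = (rmap ψ g' h').comp (rmap φ g h) := by
  subst hθ hg
  exact hom_ext (fun r => by simp) (by simp [mul_assoc])

/-- Rescaling maps are base changes. -/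
theorem isPushout_rmap {a : R} {b : S} (φ : R →+* S) (g : S) (hg : IsUnit g) (h : φ a = g ^ d * b) :
    IsPushout (CommRingCat.ofHom φ) (CommRingCat.ofHom (AdjoinRoot.of (X ^ d - C a)))
      (CommRingCat.ofHom (AdjoinRoot.of (X ^ d - C b))) (CommRingCat.ofHom (rmap φ g h)) := by
  obtain ⟨g', hg'⟩ := hg.exists_left_inv
  have key : ∀ s : Limits.PushoutCocone (CommRingCat.ofHom φ) (CommRingCat.ofHom (AdjoinRoot.of (X ^ d - C a))),
      (s.inl.hom g' * s.inr.hom (AdjoinRoot.root (X ^ d - C a))) ^ d = s.inl.hom b := by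
    intro s
    have e : ∀ r, s.inr.hom (AdjoinRoot.of (X ^ d - C a) r) = s.inl.hom (φ r) := fun r =>
      (congrArg (fun k => k.hom r) s.condition).symm
    rw [mul_pow, ← map_pow s.inr.hom]
    rw [show (AdjoinRoot.root (X ^ d - C a)) ^ d = AdjoinRoot.of (X ^ d - C a) a from root_pow d a]
    rw [e, h, ← map_pow, ← map_mul, ← mul_assoc, ← mul_pow, hg', one_pow, one_mul]
  refine ⟨⟨CommRingCat.hom_ext (RingHom.ext fun r => (rmap_of φ g h r).symm)⟩,
    ⟨Limits.PushoutCocone.IsColimit.mk _ (fun s => CommRingCat.ofHom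
      (desc s.inl.hom (s.inl.hom g' * s.inr.hom (AdjoinRoot.root _)) (key s))) ?_ ?_ ?_⟩⟩
  · intro s
    exact CommRingCat.hom_ext (RingHom.ext fun r => desc_of (d := d) (a := b) _ _ (key s) r)
  · intro s
    refine CommRingCat.hom_ext (hom_ext (fun r => ?_) ?_)
    · simp only [CommRingCat.hom_comp, CommRingCat.hom_ofHom, RingHom.comp_apply, rmap_of, desc_of]
      exact congrArg (fun k => k.hom r) s.condition
    · simp only [CommRingCat.hom_comp, CommRingCat.hom_ofHom, RingHom.comp_apply, rmap_root, map_mul,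
        desc_of, desc_root]
      rw [← mul_assoc, ← map_mul, mul_comm g g', hg', map_one, one_mul]
  · intro s m hl hr
    refine CommRingCat.hom_ext (hom_ext (fun r => ?_) ?_)
    · rw [CommRingCat.hom_ofHom, desc_of]
      exact congrArg (fun k => k.hom r) hl
    · rw [CommRingCat.hom_ofHom, desc_root]
      have e1 : AdjoinRoot.of (X ^ d - C b) g' * rmap φ g h (AdjoinRoot.root _) = AdjoinRoot.root _ := by
        rw [rmap_root, ← mul_assoc, ← map_mul, hg', map_one, one_mul]
      conv_lhs => rw [← e1]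
      rw [map_mul]
      exact congrArg₂ (· * ·) (congrArg (fun k => k.hom g') hl)
        (congrArg (fun k => k.hom (AdjoinRoot.root (X ^ d - C a))) hr)

variable (a : R)

theorem monic (hd : 0 < d) : (X ^ d - C a : R[X]).Monic := monic_X_pow_sub_C a hd.ne'

theorem finite (hd : 0 < d) : Module.Finite R (Root d a) := (monic a hd).finite_adjoinRoot

theorem free (hd : 0 < d) : Module.Free R (Root d a) := (monic a hd).free_adjoinRoot

theorem ringHom_props (hd : 0 < d) : (AdjoinRoot.of (X ^ d - C a)).Finite ∧ (AdjoinRoot.of (X ^ d - C a)).Flat ∧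
    (AdjoinRoot.of (X ^ d - C a)).FinitePresentation := by
  haveI := finite a hd
  haveI := free a hd
  refine ⟨(RingHom.finite_algebraMap (A := R) (B := Root d a)).2 inferInstance,
    (RingHom.flat_algebraMap_iff (R := R) (S := Root d a)).2 inferInstance,
    (RingHom.finitePresentation_algebraMap (A := R) (B := Root d a)).2 inferInstance⟩

theorem rank (hd : 0 < d) (x : PrimeSpectrum R) : Module.rankAtStalk (Root d a) x = d := by
  haveI := finite a hd
  haveI := free a hd
  haveI : Nontrivial R := ⟨⟨0, 1, fun h => x.isPrime.ne_top ((Ideal.eq_top_iff_one _).2 (h ▸ x.asIdeal.zero_mem))⟩⟩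
  rw [Module.rankAtStalk_eq_finrank_of_free, Pi.natCast_apply,
    (AdjoinRoot.powerBasis' (monic a hd)).finrank, AdjoinRoot.powerBasis'_dim, natDegree_X_pow_sub_C]
  rfl

theorem etale (hd : 0 < d) (ha : IsUnit a) (hd' : IsUnit (d : R)) : Algebra.Etale R (Root d a) := by
  obtain ⟨u, hu⟩ := (hd'.mul ha).exists_left_inv
  let P : StandardEtalePair R :=
    { f := X ^ d - C a
      monic_f := monic a hd
      g := 1
      cond := ⟨C u * X, -C ((d : R) * u), 1, by
        have hX : (X : R[X]) ^ (d - 1) * X = X ^ d := by rw [← pow_succ, Nat.sub_add_cancel hd]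
        rw [derivative_sub, derivative_X_pow, derivative_C, sub_zero, one_pow]
        calc C (d : R) * X ^ (d - 1) * (C u * X) + (X ^ d - C a) * -C ((d : R) * u)
            = C (d : R) * C u * (X ^ (d - 1) * X) - C ((d : R) * u) * X ^ d + C (u * ((d : R) * a)) := by
              simp only [map_mul]; ring
          _ = C (u * ((d : R) * a)) := by rw [hX, map_mul]; ring
          _ = 1 := by rw [hu, map_one]⟩ }
  have e : P.Ring ≃ₐ[R] Root d a :=
    P.equivAwayAdjoinRoot.trans ((IsLocalization.atUnit (Root d a)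
      (Localization.Away (AdjoinRoot.mk (X ^ d - C a) 1)) (AdjoinRoot.mk (X ^ d - C a) 1) ?_).symm.restrictScalars R)
  · exact Algebra.Etale.of_equiv e
  · rw [map_one]; exact isUnit_one

end GrothLib.RootCover26
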